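import Mathlib.LinearAlgebra.Lagrange
import Mathlib.RingTheory.PowerSeries.Basic
import Mathlib.RingTheory.PowerSeries.Inverse
import Mathlib.RingTheory.MvPolynomial.Basic
import Mathlib.RingTheory.Localization.FractionRing
import Mathlib.Algebra.MvPolynomial.Funext
import Mathlib.Algebra.Ring.GeomSum
import Mathlib.Tactic.LinearCombination
import Mathlib.Tactic.FieldSimp

/-!
# The residue functional of a split monic polynomial and its compatibility with `T ↦ T ^ j`

For `u : Fin m → A` let `hS u = ∏ k, 1 / (1 - u k t)`, and `Phi S : A[T] → A`, `T ^ i ↦ coeff i S`.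
The main result `core` : if `θ * W ≡ a` modulo `∏ (T - u k)`, with
`θ = ∏ k, ∑ s < j, T ^ (j - 1 - s) * u k ^ s`, then `j * Phi (hS u) (W * T ^ ((j-1) m + i j))` and
`a * coeff i (hS (u ^ j))` differ by an element killed by `a ^ m`.
-/

set_option autoImplicit false

open Polynomial

namespace Groth.Agent.Krr.H503.Core

universe u v

section defs

variable {A : Type u} [CommRing A] {m : ℕ}

/-- the series `∏ 1 / (1 - u k t)` -/
noncomputable def hS (u : Fin m → A) : PowerSeries A := ∏ k, PowerSeries.mk (fun n => u k ^ n)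

/-- the functional `T ^ i ↦ coeff i S` -/
noncomputable def Phi (S : PowerSeries A) : A[X] →ₗ[A] A :=
  Polynomial.lsum fun i => LinearMap.mulRight A (PowerSeries.coeff i S)

lemma Phi_monomial (S : PowerSeries A) (i : ℕ) (a : A) :
    Phi S (monomial i a) = a * PowerSeries.coeff i S := by
  rw [Phi, Polynomial.lsum_apply, Polynomial.sum_monomial_index]
  · rfl
  · simp

lemma Phi_X_pow (S : PowerSeries A) (i : ℕ) : Phi S (X ^ i) = PowerSeries.coeff i S := by
  rw [← monomial_one_right_eq_X_pow, Phi_monomial, one_mul]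

lemma Phi_C_mul (S : PowerSeries A) (a : A) (g : A[X]) : Phi S (C a * g) = a * Phi S g := by
  rw [← smul_eq_C_mul, map_smul, smul_eq_mul]

lemma one_sub_mul_mk (a : A) :
    (1 - PowerSeries.C a * PowerSeries.X) * PowerSeries.mk (fun n => a ^ n) = 1 := by
  ext n
  rw [sub_mul, one_mul, map_sub, PowerSeries.coeff_mk, mul_assoc, PowerSeries.coeff_C_mul,
    mul_comm PowerSeries.X, PowerSeries.coeff_one]
  rcases n with _ | n
  · simp
  · rw [PowerSeries.coeff_succ_mul_X, PowerSeries.coeff_mk, if_neg (by omega), pow_succ]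
    ring

lemma prod_mul_hS (u : Fin m → A) :
    (∏ k, (1 - PowerSeries.C (u k) * PowerSeries.X)) * hS u = 1 := by
  rw [hS, ← Finset.prod_mul_distrib]
  exact Finset.prod_eq_one fun k _ => one_sub_mul_mk (u k)

/-- `∏ (T - u k)` -/
noncomputable def pp (u : Fin m → A) : A[X] := ∏ k, (X - C (u k))

/-- `∏ k, ∑ s < j, T ^ (j - 1 - s) * u k ^ s` -/
noncomputable def th (j : ℕ) (u : Fin m → A) : A[X] :=
  ∏ k, ∑ s ∈ Finset.range j, X ^ s * C (u k) ^ (j - 1 - s)

/-- `∏ (Y - θ (u k))` -/
noncomputable def qq (j : ℕ) (u : Fin m → A) : A[X] := ∏ k, (X - C ((th j u).eval (u k)))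

/-- the "adjugate" of `θ` -/
noncomputable def gg (j : ℕ) (u : Fin m → A) : A[X] := (qq j u).divX.comp (th j u)

/-- the "norm" of `θ`, up to sign -/
noncomputable def nn (j : ℕ) (u : Fin m → A) : A := - (qq j u).coeff 0

lemma nn_eq (j : ℕ) (u : Fin m → A) : nn j u = - ∏ k, (- (th j u).eval (u k)) := by
  rw [nn, qq, Polynomial.coeff_zero_eq_eval_zero, Polynomial.eval_prod]
  simp

lemma th_mul_gg (j : ℕ) (u : Fin m → A) :
    th j u * gg j u = (qq j u).comp (th j u) + C (nn j u) := by
  have h := Polynomial.X_mul_divX_add (qq j u)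
  have h2 := congrArg (fun g : A[X] => g.comp (th j u)) h
  simp only [Polynomial.add_comp, Polynomial.mul_comp, Polynomial.X_comp, Polynomial.C_comp] at h2
  rw [← h2, gg, nn]
  simp

lemma pp_dvd_qq_comp (j : ℕ) (u : Fin m → A) : pp u ∣ (qq j u).comp (th j u) := by
  rw [qq, Polynomial.prod_comp, pp]
  apply Finset.prod_dvd_prod_of_dvd
  intro k _
  rw [Polynomial.sub_comp, Polynomial.X_comp, Polynomial.C_comp]
  exact Polynomial.X_sub_C_dvd_sub_C_eval

lemma eval_pp (u : Fin m → A) (k : Fin m) : (pp u).eval (u k) = 0 := by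
  rw [pp, Polynomial.eval_prod]
  exact Finset.prod_eq_zero (Finset.mem_univ k) (by simp)

lemma eval_gg (j : ℕ) (u : Fin m → A) (k : Fin m) :
    (th j u).eval (u k) * (gg j u).eval (u k) = nn j u := by
  have h := congrArg (Polynomial.eval (u k)) (th_mul_gg j u)
  obtain ⟨b, hb⟩ := pp_dvd_qq_comp j u
  rw [hb, Polynomial.eval_mul, Polynomial.eval_add, Polynomial.eval_mul, eval_pp, Polynomial.eval_C,
    zero_mul, zero_add] at h
  exact h

end defs

section map

variable {A : Type u} {B : Type v} [CommRing A] [CommRing B] (φ : A →+* B) {m : ℕ} (u : Fin m → A)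

lemma map_hS : PowerSeries.map φ (hS u) = hS (fun k => φ (u k)) := by
  rw [hS, hS, map_prod]
  refine Finset.prod_congr rfl fun k _ => ?_
  ext n
  simp

lemma map_Phi (S : PowerSeries A) (g : A[X]) :
    φ (Phi S g) = Phi (PowerSeries.map φ S) (g.map φ) := by
  induction g using Polynomial.induction_on' with
  | add p q hp hq => simp only [map_add, Polynomial.map_add, hp, hq]
  | monomial n a =>
    rw [Polynomial.map_monomial, Phi_monomial, Phi_monomial, map_mul, PowerSeries.coeff_map]

lemma map_pp : (pp u).map φ = pp (fun k => φ (u k)) := by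
  rw [pp, pp, Polynomial.map_prod]
  simp

lemma map_th (j : ℕ) : (th j u).map φ = th j (fun k => φ (u k)) := by
  rw [th, th, Polynomial.map_prod]
  refine Finset.prod_congr rfl fun k _ => ?_
  rw [Polynomial.map_sum]
  simp

lemma map_eval_th (j : ℕ) (k : Fin m) :
    φ ((th j u).eval (u k)) = (th j (fun k => φ (u k))).eval (φ (u k)) := by
  rw [← map_th, Polynomial.eval_map, Polynomial.eval₂_hom]

lemma map_qq (j : ℕ) : (qq j u).map φ = qq j (fun k => φ (u k)) := by
  rw [qq, qq, Polynomial.map_prod]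
  refine Finset.prod_congr rfl fun k _ => ?_
  rw [Polynomial.map_sub, Polynomial.map_X, Polynomial.map_C, map_eval_th]

lemma map_divX (g : A[X]) : g.divX.map φ = (g.map φ).divX := by
  ext n
  simp [Polynomial.coeff_divX]

lemma map_gg (j : ℕ) : (gg j u).map φ = gg j (fun k => φ (u k)) := by
  rw [gg, gg, Polynomial.map_comp, map_divX, map_qq, map_th]

lemma map_nn (j : ℕ) : φ (nn j u) = nn j (fun k => φ (u k)) := by
  rw [nn, nn, ← map_qq, Polynomial.coeff_map, map_neg]

end map

section field

variable {F : Type u} [Field F] {m : ℕ}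

/-- the Lagrange weights -/
noncomputable def cc (u : Fin m → F) (k : Fin m) : F :=
  u k ^ (m - 1) / ∏ l ∈ Finset.univ.erase k, (u k - u l)

lemma prod_erase_ne_zero (u : Fin m → F) (hu : Function.Injective u) (k : Fin m) :
    ∏ l ∈ Finset.univ.erase k, (u k - u l) ≠ 0 := by
  rw [Finset.prod_ne_zero_iff]
  intro l hl
  rw [sub_ne_zero]
  intro h
  exact (Finset.mem_erase.mp hl).1 (hu h).symm

/-- partial fractions: `∑ k, c k ∏_{l ≠ k} (1 - u l T) = 1` -/
lemma sum_cc_mul_prod (u : Fin m → F) (hu : Function.Injective u) (h0 : ∀ k, u k ≠ 0)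
    (hm : 0 < m) :
    ∑ k, C (cc u k) * ∏ l ∈ Finset.univ.erase k, (1 - C (u l) * X) = (1 : F[X]) := by
  have hinj : Set.InjOn (fun k => (u k)⁻¹) (Finset.univ : Finset (Fin m)) := by
    intro a _ b _ hab
    exact hu (inv_injective hab)
  have hne : (Finset.univ : Finset (Fin m)).Nonempty := ⟨⟨0, hm⟩, Finset.mem_univ _⟩
  have h := Lagrange.sum_basis hinj hne
  refine Eq.trans (Finset.sum_congr rfl fun k _ => ?_) h
  rw [Lagrange.basis]
  have hcard : (Finset.univ.erase k : Finset (Fin m)).card = m - 1 := by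
    rw [Finset.card_erase_of_mem (Finset.mem_univ k)]; simp
  have h1 : cc u k = ∏ l ∈ Finset.univ.erase k, (u k / (u k - u l)) := by
    rw [cc, Finset.prod_div_distrib, Finset.prod_const, hcard]
  rw [h1, map_prod, ← Finset.prod_mul_distrib]
  refine Finset.prod_congr rfl fun l hl => ?_
  have hkl : u k - u l ≠ 0 := by
    rw [sub_ne_zero]
    intro h
    exact (Finset.mem_erase.mp hl).1 (hu h).symm
  rw [Lagrange.basisDivisor]
  have h2 : ((u k)⁻¹ - (u l)⁻¹)⁻¹ = - (u k / (u k - u l)) * u l := by
    have hk := h0 k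
    have hl := h0 l
    rw [inv_sub_inv hk hl, inv_div, ← neg_sub (u k) (u l), div_neg]
    ring
  rw [h2]
  have h3 : (C (u l) * C ((u l)⁻¹) : F[X]) = 1 := by
    rw [← C_mul, mul_inv_cancel₀ (h0 l), C_1]
  simp only [C_mul, C_neg]
  linear_combination (-C (u k / (u k - u l))) * h3

/-- `Phi (hS u) g = ∑ c k * g (u k)` -/
lemma Phi_hS_eq_sum (u : Fin m → F) (hu : Function.Injective u) (h0 : ∀ k, u k ≠ 0)
    (hm : 0 < m) (g : F[X]) : Phi (hS u) g = ∑ k, cc u k * g.eval (u k) := by
  have hS' : hS u = ∑ k, PowerSeries.C (cc u k) * PowerSeries.mk (fun n => u k ^ n) := by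
    have h1 := congrArg (fun q : F[X] => (q : PowerSeries F)) (sum_cc_mul_prod u hu h0 hm)
    simp only [Polynomial.coe_one] at h1
    have h2 : ((∑ k, C (cc u k) * ∏ l ∈ Finset.univ.erase k, (1 - C (u l) * X) : F[X]) :
        PowerSeries F) = ∑ k, PowerSeries.C (cc u k) * ∏ l ∈ Finset.univ.erase k,
          (1 - PowerSeries.C (u l) * PowerSeries.X) := by
      rw [← Polynomial.coeToPowerSeries.ringHom_apply, map_sum]
      refine Finset.sum_congr rfl fun k _ => ?_
      rw [map_mul, map_prod]
      simp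
    rw [h2] at h1
    calc hS u = 1 * hS u := (one_mul _).symm
      _ = (∑ k, PowerSeries.C (cc u k) * ∏ l ∈ Finset.univ.erase k,
          (1 - PowerSeries.C (u l) * PowerSeries.X)) * hS u := by rw [h1]
      _ = ∑ k, PowerSeries.C (cc u k) * PowerSeries.mk (fun n => u k ^ n) := by
          rw [Finset.sum_mul]
          refine Finset.sum_congr rfl fun k _ => ?_
          have h3 : (∏ l ∈ Finset.univ.erase k, (1 - PowerSeries.C (u l) * PowerSeries.X)) * hS u =
              PowerSeries.mk (fun n => u k ^ n) := by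
            have h4 : (1 - PowerSeries.C (u k) * PowerSeries.X) *
                ∏ l ∈ Finset.univ.erase k, (1 - PowerSeries.C (u l) * PowerSeries.X) =
                ∏ l, (1 - PowerSeries.C (u l) * PowerSeries.X) :=
              Finset.mul_prod_erase Finset.univ
                (fun l => (1 - PowerSeries.C (u l) * PowerSeries.X : PowerSeries F))
                (Finset.mem_univ k)
            have h5 := prod_mul_hS u
            rw [← h4] at h5
            have h6 := one_sub_mul_mk (u k)
            calc (∏ l ∈ Finset.univ.erase k, (1 - PowerSeries.C (u l) * PowerSeries.X)) * hS u =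
                ((1 - PowerSeries.C (u k) * PowerSeries.X) * PowerSeries.mk (fun n => u k ^ n)) *
                ((∏ l ∈ Finset.univ.erase k, (1 - PowerSeries.C (u l) * PowerSeries.X)) *
                  hS u) := by rw [h6, one_mul]
              _ = PowerSeries.mk (fun n => u k ^ n) *
                ((1 - PowerSeries.C (u k) * PowerSeries.X) *
                (∏ l ∈ Finset.univ.erase k, (1 - PowerSeries.C (u l) * PowerSeries.X)) *
                  hS u) := by ring
              _ = _ := by rw [h5, mul_one]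
          rw [mul_assoc, h3]
  induction g using Polynomial.induction_on' with
  | add p q hp hq =>
    simp only [map_add, hp, hq, Polynomial.eval_add, mul_add, Finset.sum_add_distrib]
  | monomial n a =>
    rw [Phi_monomial, hS', map_sum, Finset.mul_sum]
    refine Finset.sum_congr rfl fun k _ => ?_
    rw [PowerSeries.coeff_C_mul, PowerSeries.coeff_mk, Polynomial.eval_monomial]
    ring

/-- the value of `θ` at a root -/
lemma eval_th_mul (j : ℕ) (hj : 1 ≤ j) (u : Fin m → F) (k : Fin m) :
    (th j u).eval (u k) * ∏ l ∈ Finset.univ.erase k, (u k - u l) =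
      (j : F) * u k ^ (j - 1) * ∏ l ∈ Finset.univ.erase k, (u k ^ j - u l ^ j) := by
  rw [th, Polynomial.eval_prod, ← Finset.mul_prod_erase Finset.univ _ (Finset.mem_univ k),
    mul_assoc, ← Finset.prod_mul_distrib]
  congr 1
  · rw [Polynomial.eval_finsetSum]
    have : ∀ s ∈ Finset.range j, Polynomial.eval (u k) (X ^ s * C (u k) ^ (j - 1 - s)) =
        u k ^ (j - 1) := by
      intro s hs
      rw [Polynomial.eval_mul, Polynomial.eval_pow, Polynomial.eval_pow, Polynomial.eval_X,
        Polynomial.eval_C, ← pow_add]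
      congr 1
      have := Finset.mem_range.mp hs
      omega
    rw [Finset.sum_congr rfl this]
    simp
  · refine Finset.prod_congr rfl fun l _ => ?_
    rw [Polynomial.eval_finsetSum, ← (Commute.all (u k) (u l)).geom_sum₂_mul j]
    congr 1
    refine Finset.sum_congr rfl fun s _ => ?_
    simp

/-- the universal identity over a field in which everything is invertible -/
lemma field_identity (j : ℕ) (hj : 1 ≤ j) (hj0 : (j : F) ≠ 0) (u : Fin m → F)
    (hu : Function.Injective u) (h0 : ∀ k, u k ≠ 0)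
    (huj : Function.Injective (fun k => u k ^ j)) (hm : 0 < m) (i : ℕ) :
    (j : F) * Phi (hS u) (gg j u * X ^ ((j - 1) * m + i * j)) =
      nn j u * PowerSeries.coeff i (hS (fun k => u k ^ j)) := by
  rw [Phi_hS_eq_sum u hu h0 hm, ← Phi_X_pow,
    Phi_hS_eq_sum (fun k => u k ^ j) huj (fun k => pow_ne_zero _ (h0 k)) hm, Finset.mul_sum,
    Finset.mul_sum]
  refine Finset.sum_congr rfl fun k _ => ?_
  have h1 := prod_erase_ne_zero u hu k
  have h2 := prod_erase_ne_zero (fun k => u k ^ j) huj k
  have h3 := eval_th_mul j hj u k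
  have h4 := eval_gg j u k
  have h5 : (u k) ^ (j - 1) ≠ 0 := pow_ne_zero _ (h0 k)
  simp only [cc] at *
  rw [Polynomial.eval_mul, Polynomial.eval_pow, Polynomial.eval_pow, Polynomial.eval_X,
    Polynomial.eval_X]
  have h6 : (th j u).eval (u k) ≠ 0 := by
    intro h
    rw [h, zero_mul] at h3
    exact (mul_ne_zero (mul_ne_zero hj0 h5) h2) h3.symm
  have h7 : (gg j u).eval (u k) = nn j u / (th j u).eval (u k) := by
    rw [eq_div_iff h6, ← h4, mul_comm]
  have h8 : (th j u).eval (u k) = (j : F) * u k ^ (j - 1) *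
      (∏ l ∈ Finset.univ.erase k, (u k ^ j - u l ^ j)) /
        ∏ l ∈ Finset.univ.erase k, (u k - u l) := by
    rw [eq_div_iff h1, h3]
  rw [h7, h8]
  have h9 : u k ^ ((j - 1) * m + i * j) * u k ^ (m - 1) =
      u k ^ (j - 1) * ((u k ^ j) ^ (m - 1) * (u k ^ j) ^ i) := by
    rw [← pow_add, ← pow_mul, ← pow_mul, ← pow_add, ← pow_add]
    congr 1
    obtain ⟨m, rfl⟩ : ∃ m', m = m' + 1 := ⟨m - 1, by omega⟩
    obtain ⟨j, rfl⟩ : ∃ j', j = j' + 1 := ⟨j - 1, by omega⟩
    simp only [Nat.add_sub_cancel]
    ring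
  set D := ∏ l ∈ Finset.univ.erase k, (u k - u l) with hD
  set E := ∏ l ∈ Finset.univ.erase k, (u k ^ j - u l ^ j) with hE
  field_simp
  linear_combination (nn j u) * h9

end field

section universal

variable (m : ℕ)

/-- the universal roots -/
noncomputable def Uv : Fin m → MvPolynomial (Fin m) ℤ := fun k => MvPolynomial.X k

/-- the universal roots in the fraction field -/
noncomputable def UF : Fin m → FractionRing (MvPolynomial (Fin m) ℤ) :=
  fun k => algebraMap (MvPolynomial (Fin m) ℤ) _ (MvPolynomial.X k)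

lemma alg_inj : Function.Injective
    (algebraMap (MvPolynomial (Fin m) ℤ) (FractionRing (MvPolynomial (Fin m) ℤ))) :=
  IsFractionRing.injective _ _

lemma X_pow_injective (j : ℕ) (hj : 1 ≤ j) :
    Function.Injective (fun k : Fin m => (MvPolynomial.X k : MvPolynomial (Fin m) ℤ) ^ j) := by
  intro a b hab
  by_contra hne
  have h := congrArg (MvPolynomial.eval (fun l : Fin m => if l = a then (1 : ℤ) else 0)) hab
  simp only [map_pow, MvPolynomial.eval_X, if_true] at h
  rw [if_neg (fun h => hne h.symm), one_pow, zero_pow (by omega)] at h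
  exact one_ne_zero h

lemma UF_pow_injective (j : ℕ) (hj : 1 ≤ j) : Function.Injective (fun k => UF m k ^ j) := by
  intro a b hab
  apply X_pow_injective m j hj
  apply alg_inj m
  simpa [UF] using hab

lemma UF_injective : Function.Injective (UF m) := by
  have := UF_pow_injective m 1 le_rfl
  simpa using this

lemma UF_ne_zero (k : Fin m) : UF m k ≠ 0 := by
  rw [UF, Ne, ← map_zero (algebraMap (MvPolynomial (Fin m) ℤ) _)]
  intro h
  exact MvPolynomial.X_ne_zero k (alg_inj m h)

lemma natCast_ne_zero (j : ℕ) (hj : 1 ≤ j) :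
    (j : FractionRing (MvPolynomial (Fin m) ℤ)) ≠ 0 := by
  have : (j : FractionRing (MvPolynomial (Fin m) ℤ)) =
      algebraMap (MvPolynomial (Fin m) ℤ) _ (j : MvPolynomial (Fin m) ℤ) := by simp
  rw [this, Ne, ← map_zero (algebraMap (MvPolynomial (Fin m) ℤ) _)]
  intro h
  have h2 := alg_inj m h
  have h3 := congrArg (MvPolynomial.eval (fun _ : Fin m => (0 : ℤ))) h2
  simp only [map_natCast, map_zero] at h3
  omega

lemma univ_identity (hm : 0 < m) (j : ℕ) (hj : 1 ≤ j) (i : ℕ) :
    (j : MvPolynomial (Fin m) ℤ) * Phi (hS (Uv m)) (gg j (Uv m) * X ^ ((j - 1) * m + i * j)) =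
      nn j (Uv m) * PowerSeries.coeff i (hS (fun k => Uv m k ^ j)) := by
  apply alg_inj m
  rw [RingHom.map_mul, RingHom.map_mul, map_Phi, map_hS, Polynomial.map_mul, map_gg, map_nn, Polynomial.map_pow,
    Polynomial.map_X, map_natCast, ← PowerSeries.coeff_map, map_hS]
  have h := field_identity j hj (natCast_ne_zero m j hj) (UF m) (UF_injective m) (UF_ne_zero m)
    (UF_pow_injective m j hj) hm i
  simp only [map_pow]
  exact h

lemma univ_pp (hm : 0 < m) (i : ℕ) : Phi (hS (Uv m)) (pp (Uv m) * X ^ i) = 0 := by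
  apply alg_inj m
  rw [map_Phi, map_hS, Polynomial.map_mul, map_pp, map_zero]
  have h := Phi_hS_eq_sum (UF m) (UF_injective m) (UF_ne_zero m) hm
    (pp (UF m) * (X ^ i : (MvPolynomial (Fin m) ℤ)[X]).map (algebraMap _ _))
  refine Eq.trans h (Finset.sum_eq_zero fun k _ => ?_)
  rw [Polynomial.eval_mul, eval_pp, zero_mul, mul_zero]

end universal

section main

variable {A : Type u} [CommRing A] {m : ℕ} (u : Fin m → A)

/-- specialisation of the universal roots -/
noncomputable def spec : MvPolynomial (Fin m) ℤ →+* A :=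
  (MvPolynomial.aeval u : MvPolynomial (Fin m) ℤ →ₐ[ℤ] A).toRingHom

@[simp] lemma spec_Uv (k : Fin m) : spec u (Uv m k) = u k := by
  simp [spec, Uv]

lemma identity (hm : 0 < m) (j : ℕ) (hj : 1 ≤ j) (i : ℕ) :
    (j : A) * Phi (hS u) (gg j u * X ^ ((j - 1) * m + i * j)) =
      nn j u * PowerSeries.coeff i (hS (fun k => u k ^ j)) := by
  have h := congrArg (spec u) (univ_identity m hm j hj i)
  rw [RingHom.map_mul, RingHom.map_mul, map_Phi, map_hS, Polynomial.map_mul, map_gg, map_nn,
    Polynomial.map_pow, Polynomial.map_X, map_natCast, ← PowerSeries.coeff_map, map_hS] at h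
  simpa only [map_pow, spec_Uv] using h

lemma Phi_pp_mul_X_pow (hm : 0 < m) (i : ℕ) : Phi (hS u) (pp u * X ^ i) = 0 := by
  have h := congrArg (spec u) (univ_pp m hm i)
  rw [map_Phi, map_hS, Polynomial.map_mul, map_pp, Polynomial.map_pow, Polynomial.map_X,
    map_zero] at h
  simpa only [map_pow, spec_Uv] using h

lemma Phi_pp_mul (hm : 0 < m) (g : A[X]) : Phi (hS u) (pp u * g) = 0 := by
  induction g using Polynomial.induction_on' with
  | add p q hp hq => rw [mul_add, map_add, hp, hq, add_zero]
  | monomial n a =>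
    have h1 : pp u * monomial n a = C a * (pp u * X ^ n) := by
      rw [← C_mul_X_pow_eq_monomial]; ring
    rw [h1, Phi_C_mul, Phi_pp_mul_X_pow u hm, mul_zero]

/-- **The core identity.** -/
theorem core (hm : 0 < m) (j : ℕ) (hj : 1 ≤ j) (W : A[X]) (a : A)
    (hW : pp u ∣ th j u * W - C a) (i : ℕ) :
    a ^ m * ((j : A) * Phi (hS u) (W * X ^ ((j - 1) * m + i * j)) -
      a * PowerSeries.coeff i (hS (fun k => u k ^ j))) = 0 := by
  obtain ⟨b, hb⟩ := hW
  obtain ⟨b', hb'⟩ := pp_dvd_qq_comp j u
  have h1 : ∀ k, (th j u).eval (u k) * W.eval (u k) = a := by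
    intro k
    have := congrArg (Polynomial.eval (u k)) hb
    rw [Polynomial.eval_mul, eval_pp, zero_mul, Polynomial.eval_sub, Polynomial.eval_C,
      Polynomial.eval_mul] at this
    exact sub_eq_zero.mp this
  have h2 : a ^ m = (∏ k, (th j u).eval (u k)) * ∏ k, W.eval (u k) := by
    rw [← Finset.prod_mul_distrib, Finset.prod_congr rfl (fun k _ => h1 k)]
    simp
  have h3 : nn j u = (- (-1) ^ m) * ∏ k, (th j u).eval (u k) := by
    rw [nn_eq, Finset.prod_neg]
    simp
  have h4 : (∏ k, (th j u).eval (u k)) = (- (-1) ^ m) * nn j u := by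
    rw [h3, ← mul_assoc]
    have : (-(-1 : A) ^ m) * (-(-1) ^ m) = 1 := by
      rw [neg_mul_neg, ← pow_add, ← two_mul, pow_mul]; simp
    rw [this, one_mul]
  set M := (j - 1) * m + i * j with hM
  have h5 : nn j u * Phi (hS u) (W * X ^ M) = a * Phi (hS u) (gg j u * X ^ M) := by
    have h6 : C (nn j u) * (W * X ^ M) = C a * (gg j u * X ^ M) +
        pp u * ((b * gg j u - b' * W) * X ^ M) := by
      have h7 := th_mul_gg j u
      rw [hb'] at h7
      linear_combination (-(W * X ^ M)) * h7 + (gg j u * X ^ M) * hb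
    rw [← Phi_C_mul, ← Phi_C_mul, h6, map_add, Phi_pp_mul u hm, add_zero]
  have h8 := identity u hm j hj i
  rw [← hM] at h8
  have h9 : nn j u * ((j : A) * Phi (hS u) (W * X ^ M) -
      a * PowerSeries.coeff i (hS (fun k => u k ^ j))) = 0 := by
    linear_combination (j : A) * h5 + a * h8
  rw [h2, h4]
  linear_combination (- (-1) ^ m) * (∏ k, W.eval (u k)) * h9

end main

end Groth.Agent.Krr.H503.Core
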