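import Groth.Agent.Krr.H503.Lam
import Mathlib.RingTheory.AdjoinRoot

/-!
# The elementary extension `K[T]/(p_e)`: functional, Bott class, and the core congruence
-/

set_option autoImplicit false
universe u

open Finset LambdaRing

namespace Groth.Agent.Krr.H503.Elem

open Groth.Agent.Books.Lambda1 Groth.Agent.Krr.H503.Core Groth.Agent.Krr.H503.Lam
open Groth.Agent.Books.Lambda3 (exists_split_fin)

variable {K : Type u} [CommRing K] [LambdaOps K] (P : PosStructure K) (hK : HasSplitting K P)
  (e : K) (he : e ∈ P.pos)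

lemma monic_pp {A : Type u} [CommRing A] {m : ℕ} (v : Fin m → A) : (pp v).Monic :=
  Polynomial.monic_prod_of_monic _ _ fun k _ => Polynomial.monic_X_sub_C (v k)

lemma natDegree_pp {A : Type u} [CommRing A] [Nontrivial A] {m : ℕ} (v : Fin m → A) :
    (pp v).natDegree = m := by
  rw [pp, Polynomial.natDegree_prod_of_monic _ _ fun k _ => Polynomial.monic_X_sub_C (v k)]
  simp

include hK he in
lemma monic_extPoly : (KRR.extPoly P e).Monic := by
  obtain ⟨L', -, f, hf, v, hv, hsum⟩ := exists_split_fin P hK e he _ rfl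
  apply Polynomial.monic_of_injective hf.injective
  rw [map_extPoly P L'.posStr hf e rfl v hv hsum]
  exact monic_pp v

include hK he in
lemma natDegree_extPoly : (KRR.extPoly P e).natDegree = (P.aug e).toNat := by
  obtain ⟨L', -, f, hf, v, hv, hsum⟩ := exists_split_fin P hK e he _ rfl
  have : Nontrivial L'.carrier := L'.posStr.aug.domain_nontrivial
  rw [← Polynomial.natDegree_map_eq_of_injective hf.injective,
    map_extPoly P L'.posStr hf e rfl v hv hsum, natDegree_pp]

include hK he in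
lemma Phi_extPoly_mul (g : Polynomial K) :
    Phi (KRR.sigmaSeries e) (KRR.extPoly P e * g) = 0 := by
  obtain ⟨L', -, f, hf, v, hv, hsum⟩ := exists_split_fin P hK e he _ rfl
  have hm : 0 < (P.aug e).toNat := by have := P.aug_pos e he; omega
  apply hf.injective
  rw [map_Phi, map_sigmaSeries P L'.posStr hf e v hv hsum, Polynomial.map_mul,
    map_extPoly P L'.posStr hf e rfl v hv hsum, Phi_pp_mul v hm, map_zero]

include hK he in
/-- the functional `f` with `f (ℓ^i) = σ^i(e)`, `i ≤ r`, in terms of `σ_t(e)` -/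
lemma f_mk (r : ℕ) (hr : P.aug e = r + 1)
    (f : AdjoinRoot (KRR.extPoly P e) →ₗ[K] K)
    (hf : ∀ i : ℕ, i ≤ r → f (AdjoinRoot.root (KRR.extPoly P e) ^ i) = KRR.sigma i e)
    (g : Polynomial K) :
    f (AdjoinRoot.mk (KRR.extPoly P e) g) = Phi (KRR.sigmaSeries e) g := by
  have hdeg := natDegree_extPoly P hK e he
  have hmon := monic_extPoly P hK e he
  have hsmul : ∀ (a : K) (h : Polynomial K), AdjoinRoot.mk (KRR.extPoly P e)
      (Polynomial.C a * h) = a • AdjoinRoot.mk (KRR.extPoly P e) h := by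
    intro a h
    rw [Algebra.smul_def, map_mul]
    rfl
  have hmod : ∀ h : Polynomial K, h.natDegree < r + 1 →
      f (AdjoinRoot.mk (KRR.extPoly P e) h) = Phi (KRR.sigmaSeries e) h := by
    intro h hh
    rw [Polynomial.as_sum_range' h (r + 1) hh, map_sum, map_sum, map_sum]
    refine Finset.sum_congr rfl fun i hi => ?_
    rw [Phi_monomial, ← Polynomial.C_mul_X_pow_eq_monomial, hsmul, map_smul, map_pow,
      AdjoinRoot.mk_X, hf i (by have := Finset.mem_range.mp hi; omega), smul_eq_mul]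
    rfl
  rw [← Polynomial.modByMonic_add_div g (KRR.extPoly P e)]
  have hlt : (g %ₘ KRR.extPoly P e).natDegree < r + 1 := by
    have h1 : (KRR.extPoly P e).natDegree ≠ 0 := by rw [hdeg, hr]; omega
    have h2 := Polynomial.natDegree_modByMonic_lt g hmon (by
      intro h3
      rw [h3] at h1
      exact h1 Polynomial.natDegree_one)
    rw [hdeg, hr] at h2
    omega
  have h4 : AdjoinRoot.mk (KRR.extPoly P e) (g %ₘ KRR.extPoly P e +
      KRR.extPoly P e * (g /ₘ KRR.extPoly P e)) =
      AdjoinRoot.mk (KRR.extPoly P e) (g %ₘ KRR.extPoly P e) := by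
    rw [map_add, map_mul, AdjoinRoot.mk_self, zero_mul, add_zero]
  rw [h4, map_add, Phi_extPoly_mul P hK e he, add_zero, hmod _ hlt]

include hK he in
/-- `f (ℓ^i) = σ^i(e)` for all `i` -/
lemma f_root_pow (r : ℕ) (hr : P.aug e = r + 1)
    (f : AdjoinRoot (KRR.extPoly P e) →ₗ[K] K)
    (hf : ∀ i : ℕ, i ≤ r → f (AdjoinRoot.root (KRR.extPoly P e) ^ i) = KRR.sigma i e) (i : ℕ) :
    f (AdjoinRoot.root (KRR.extPoly P e) ^ i) = KRR.sigma i e := by
  have h := f_mk P hK e he r hr f hf (Polynomial.X ^ i)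
  rw [map_pow, AdjoinRoot.mk_X, Phi_X_pow] at h
  exact h

lemma esymm_mul {A : Type*} [CommRing A] {m : ℕ} (v : Fin m → A) (c : A) (n : ℕ) :
    (Finset.univ.val.map (fun k => v k * c)).esymm n =
      (Finset.univ.val.map v).esymm n * c ^ n := by
  rw [Finset.esymm_map_val, Finset.esymm_map_val, Finset.sum_mul]
  refine Finset.sum_congr rfl fun t ht => ?_
  rw [Finset.prod_mul_distrib, Finset.prod_const, (Finset.mem_powersetCard.mp ht).2]

lemma map_esymm {A B : Type*} [CommRing A] [CommRing B] (g : A →+* B) {m : ℕ} (v : Fin m → A)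
    (n : ℕ) : g ((Finset.univ.val.map v).esymm n) =
      (Finset.univ.val.map (fun k => g (v k))).esymm n := by
  rw [Finset.esymm_map_val, Finset.esymm_map_val, map_sum]
  refine Finset.sum_congr rfl fun t _ => ?_
  rw [map_prod]

/-- the image of `θ^j (e ℓ⁻¹)` in a ring where `e` splits -/
lemma map_bott {E : Type u} [CommRing E] [LambdaOps E] (Pe : PosStructure E)
    (hE : HasSplitting E Pe) {ι : K →+* E} (hι : IsExtension P Pe ι)
    {w linv : E} (hw : Pe.IsLine w) (hlinv : linv * w = 1)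
    {L : Type u} [CommRing L] [LambdaOps L] (P' : PosStructure L) {f : K →+* L}
    (hf : IsExtension P P' f) {m : ℕ} (hm : (P.aug e).toNat = m) (v : Fin m → L)
    (hv : ∀ i, P'.IsLine (v i)) (hsum : ∑ i, v i = f e)
    {B : Type*} [CommRing B] (π : E →+* B) (ι' : L →+* B) (hπ : ∀ x, π (ι x) = ι' (f x)) (j : ℕ) :
    π (KRR.bott Pe j (ι e * linv)) =
      ∏ k, ∑ s ∈ Finset.range j, (ι' (v k) * π linv) ^ s := by
  have haug : Pe.aug linv = 1 := by
    have h := congrArg Pe.aug hlinv
    rw [map_mul, hw.2, mul_one, map_one] at h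
    exact h
  have hM : (Pe.aug (ι e * linv)).toNat = m := by
    rw [map_mul, haug, mul_one, hι.aug_comp, hm]
  rw [KRR.bott, hM, ← aeval_bottPoly j m (fun k => ι' (v k) * π linv)]
  have h1 : ∀ (a : Fin m → E) (Q : MvPolynomial (Fin m) ℤ), π (MvPolynomial.aeval a Q) =
      MvPolynomial.aeval (fun i => π (a i)) Q := by
    intro a Q
    have h2 : π.comp (MvPolynomial.aeval a : MvPolynomial (Fin m) ℤ →ₐ[ℤ] E).toRingHom =
        (MvPolynomial.aeval (fun i => π (a i)) : MvPolynomial (Fin m) ℤ →ₐ[ℤ] B).toRingHom := by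
      apply MvPolynomial.ringHom_ext
      · intro a
        simp
      · intro i
        simp
    exact congrArg (fun g : MvPolynomial (Fin m) ℤ →+* B => g Q) h2
  rw [h1]
  congr 2
  funext i
  rw [lam_mul_inv Pe hE hw hlinv, ← hι.isLambdaHom, map_mul, hπ, map_pow,
    map_lam_eq_esymm P P' hf e v hv hsum, esymm_mul (fun k => ι' (v k)) (π linv), map_esymm]

/-- `adams` of the coefficients of `σ_t(e)` -/
lemma map_adams_sigma {L : Type u} [CommRing L] [LambdaOps L] (P' : PosStructure L)
    (hL : HasSplitting L P') {f : K →+* L}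
    (hf : IsExtension P P' f) {m : ℕ} (v : Fin m → L)
    (hv : ∀ i, P'.IsLine (v i)) (hsum : ∑ i, v i = f e) (i j : ℕ) :
    f (adams P j (KRR.sigma i e)) = PowerSeries.coeff i (hS (fun k => v k ^ j)) := by
  rw [map_adams hf, KRR.sigma, ← PowerSeries.coeff_map, map_sigmaSeries P P' hf e v hv hsum,
    ← adamsRingHom_apply P' hL, ← PowerSeries.coeff_map, map_hS]
  simp only [adamsRingHom_apply]
  congr 2
  funext k
  exact adams_line P' (v k) (hv k) j

section main

variable [LambdaOps (AdjoinRoot (KRR.extPoly P e))]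
  (Pe : PosStructure (AdjoinRoot (KRR.extPoly P e)))
  (hE : HasSplitting (AdjoinRoot (KRR.extPoly P e)) Pe)
  (hext : IsExtension P Pe (AdjoinRoot.of (KRR.extPoly P e)))
  (hline : Pe.IsLine (AdjoinRoot.root (KRR.extPoly P e)))
  (r : ℕ) (hr : P.aug e = r + 1)
  (f : AdjoinRoot (KRR.extPoly P e) →ₗ[K] K)
  (hf : ∀ i : ℕ, i ≤ r → f (AdjoinRoot.root (KRR.extPoly P e) ^ i) = KRR.sigma i e)
  (linv : AdjoinRoot (KRR.extPoly P e)) (hlinv : linv * AdjoinRoot.root (KRR.extPoly P e) = 1)
  (j : ℕ) (hj : 1 ≤ j) (w : AdjoinRoot (KRR.extPoly P e)) (a : ℕ)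
  (hw : w * KRR.bott Pe j (AdjoinRoot.of (KRR.extPoly P e) e * linv) = a)

include hK he hE hext hline hr hf hlinv hj hw in
lemma core_root (i : ℕ) :
    (a : K) ^ (r + 1) * ((j : K) * f (w * AdjoinRoot.root (KRR.extPoly P e) ^ (i * j)) -
      a * adams P j (KRR.sigma i e)) = 0 := by
  have hm : (P.aug e).toNat = r + 1 := by rw [hr]; omega
  obtain ⟨L', hL', g, hg, v, hv, hsum⟩ := exists_split_fin P hK e he _ hm
  have hmap := map_extPoly P L'.posStr hg e hm v hv hsum
  obtain ⟨π, hπ⟩ : ∃ π : AdjoinRoot (KRR.extPoly P e) →+* AdjoinRoot (pp v),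
      π = AdjoinRoot.map g (KRR.extPoly P e) (pp v) (by rw [hmap]) := ⟨_, rfl⟩
  have hπof : ∀ x, π (AdjoinRoot.of (KRR.extPoly P e) x) = AdjoinRoot.of (pp v) (g x) := fun x => by
    rw [hπ, AdjoinRoot.map, AdjoinRoot.lift_of]; rfl
  have hπroot : π (AdjoinRoot.root (KRR.extPoly P e)) = AdjoinRoot.root (pp v) := by
    rw [hπ, AdjoinRoot.map, AdjoinRoot.lift_root]
  have hπmk : ∀ h, π (AdjoinRoot.mk (KRR.extPoly P e) h) = AdjoinRoot.mk (pp v) (h.map g) := by
    intro h
    induction h using Polynomial.induction_on' with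
    | add a b ha hb => simp only [map_add, Polynomial.map_add, ha, hb]
    | monomial n b =>
      rw [← Polynomial.C_mul_X_pow_eq_monomial, map_mul, map_pow, AdjoinRoot.mk_X, AdjoinRoot.mk_C,
        map_mul, map_pow, hπof, hπroot, Polynomial.map_mul, Polynomial.map_pow, Polynomial.map_X,
        Polynomial.map_C, map_mul, map_pow, AdjoinRoot.mk_X, AdjoinRoot.mk_C]
  have hbott := map_bott P e Pe hE hext hline hlinv L'.posStr hg hm v hv hsum π
    (AdjoinRoot.of (pp v)) hπof j
  have hlinv' : π linv * AdjoinRoot.root (pp v) = 1 := by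
    rw [← hπroot, ← map_mul, hlinv, map_one]
  have hth : AdjoinRoot.mk (pp v) (th j v) =
      AdjoinRoot.root (pp v) ^ ((j - 1) * (r + 1)) *
        π (KRR.bott Pe j (AdjoinRoot.of (KRR.extPoly P e) e * linv)) := by
    rw [hbott, th, map_prod, pow_mul]
    have h1 : (AdjoinRoot.root (pp v) ^ (j - 1)) ^ (r + 1) =
        ∏ _k : Fin (r + 1), AdjoinRoot.root (pp v) ^ (j - 1) := by simp
    rw [h1, ← Finset.prod_mul_distrib]
    refine Finset.prod_congr rfl fun k _ => ?_
    rw [map_sum, Finset.mul_sum, ← Finset.sum_range_reflect]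
    refine Finset.sum_congr rfl fun s hs => ?_
    have hs' := Finset.mem_range.mp hs
    rw [map_mul, map_pow, map_pow, AdjoinRoot.mk_X, AdjoinRoot.mk_C, mul_pow]
    have h2 : j - 1 - (j - 1 - s) = s := by omega
    have h3 : AdjoinRoot.root (pp v) ^ (j - 1) =
        AdjoinRoot.root (pp v) ^ (j - 1 - s) * AdjoinRoot.root (pp v) ^ s := by
      rw [← pow_add]; congr 1; omega
    have h4 : (π linv) ^ s * AdjoinRoot.root (pp v) ^ s = 1 := by
      rw [← mul_pow, hlinv', one_pow]
    rw [h2, h3]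
    linear_combination (-(AdjoinRoot.root (pp v) ^ (j - 1 - s) *
      AdjoinRoot.of (pp v) (v k) ^ s)) * h4
  obtain ⟨W, hW⟩ := AdjoinRoot.mk_surjective (linv ^ ((j - 1) * (r + 1)) * w)
  have hdvd : pp v ∣ th j v * W.map g - Polynomial.C (a : L'.carrier) := by
    rw [← AdjoinRoot.mk_eq_mk, map_mul, ← hπmk, hW, hth, AdjoinRoot.mk_C, map_mul, map_pow]
    have h5 := congrArg π hw
    rw [map_mul, map_natCast] at h5
    have h6 : (π linv) ^ ((j - 1) * (r + 1)) *
        AdjoinRoot.root (pp v) ^ ((j - 1) * (r + 1)) = 1 := by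
      rw [← mul_pow, hlinv', one_pow]
    rw [map_natCast, ← h5]
    linear_combination (π w * π (KRR.bott Pe j (AdjoinRoot.of (KRR.extPoly P e) e * linv))) * h6
  have hcore := core v (Nat.succ_pos r) j hj (W.map g) (a : L'.carrier) hdvd i
  apply hg.injective
  rw [map_mul, map_pow, map_natCast, map_sub, RingHom.map_mul, RingHom.map_mul, map_natCast,
    map_natCast,
    map_adams_sigma P e L'.posStr hL' hg v hv hsum i j, map_zero]
  have h7 : w * AdjoinRoot.root (KRR.extPoly P e) ^ (i * j) =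
      AdjoinRoot.mk (KRR.extPoly P e) (W * Polynomial.X ^ ((j - 1) * (r + 1) + i * j)) := by
    rw [map_mul, hW, map_pow, AdjoinRoot.mk_X, pow_add]
    have h6 : linv ^ ((j - 1) * (r + 1)) *
        AdjoinRoot.root (KRR.extPoly P e) ^ ((j - 1) * (r + 1)) = 1 := by
      rw [← mul_pow, hlinv, one_pow]
    linear_combination (-(w * AdjoinRoot.root (KRR.extPoly P e) ^ (i * j))) * h6
  rw [h7, f_mk P hK e he r hr f hf, map_Phi, map_sigmaSeries P L'.posStr hg e v hv hsum,
    Polynomial.map_mul, Polynomial.map_pow, Polynomial.map_X]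
  exact hcore

include hK he hE hext hline hr hf hlinv hj hw in
/-- the Adams-Riemann-Roch identity for the elementary extension, up to `a`-power torsion -/
theorem core_all (x : AdjoinRoot (KRR.extPoly P e)) :
    (a : K) ^ (r + 1) * ((j : K) * f (w * adams Pe j x) - a * adams P j (f x)) = 0 := by
  obtain ⟨x, rfl⟩ := AdjoinRoot.mk_surjective x
  induction x using Polynomial.induction_on' with
  | add x y hx hy =>
    rw [map_add, adams_add, mul_add, map_add, map_add, adams_add]
    linear_combination hx + hy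
  | monomial n b =>
    have h1 : AdjoinRoot.mk (KRR.extPoly P e) (Polynomial.monomial n b) =
        b • AdjoinRoot.root (KRR.extPoly P e) ^ n := by
      rw [← Polynomial.C_mul_X_pow_eq_monomial, map_mul, map_pow, AdjoinRoot.mk_X,
        AdjoinRoot.mk_C, Algebra.smul_def]
      rfl
    have h2 : adams Pe j (b • AdjoinRoot.root (KRR.extPoly P e) ^ n) =
        adams P j b • AdjoinRoot.root (KRR.extPoly P e) ^ (n * j) := by
      rw [Algebra.smul_def, Algebra.smul_def, adams_mul Pe hE,
        adams_line Pe _ (IsLine_pow Pe hline n), pow_mul]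
      congr 1
      exact (map_adams hext j b).symm
    rw [h1, h2, mul_smul_comm, map_smul, map_smul, smul_eq_mul, smul_eq_mul,
      f_root_pow P hK e he r hr f hf, adams_mul P hK]
    have h3 := core_root P hK e he Pe hE hext hline r hr f hf linv hlinv j hj w a hw n
    linear_combination (adams P j b) * h3

end main

section inv

/-- `ε (θ^j (e ℓ⁻¹)) = j ^ ε(e)` -/
lemma aug_bott (P : PosStructure K) (hK : HasSplitting K P) (e : K) (he : e ∈ P.pos)
    {E : Type u} [CommRing E] [LambdaOps E] (Pe : PosStructure E)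
    (hE : HasSplitting E Pe) {ι : K →+* E} (hι : IsExtension P Pe ι)
    {w linv : E} (hw : Pe.IsLine w) (hlinv : linv * w = 1) {m : ℕ} (hm : (P.aug e).toNat = m)
    (j : ℕ) : Pe.aug (KRR.bott Pe j (ι e * linv)) = (j : ℤ) ^ m := by
  obtain ⟨L', -, g, hg, v, hv, hsum⟩ := exists_split_fin P hK e he _ hm
  have haug : Pe.aug linv = 1 := by
    have h := congrArg Pe.aug hlinv
    rw [map_mul, hw.2, mul_one, map_one] at h
    exact h
  rw [map_bott P e Pe hE hι hw hlinv L'.posStr hg hm v hv hsum Pe.aug L'.posStr.aug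
    (fun x => by rw [hι.aug_comp, hg.aug_comp]) j]
  have h1 : ∀ k, L'.posStr.aug (v k) = 1 := fun k => (hv k).2
  simp [h1, haug]

lemma pow_mem_filtration (P : PosStructure K) {x : K} (hx : P.aug x = 0) (n : ℕ) :
    x ^ n ∈ gammaFiltration P n := by
  induction n with
  | zero => exact Books.Lambda2.mem_filtration_zero P _
  | succ n ih =>
    rw [pow_succ]
    refine Books.Lambda2.mul_mem_filtration P n 1 _ _ ih ?_
    have h := Books.Lambda2.gamma_mem_filtration P hx 1
    rwa [Books.Lambda2.gamma_one] at h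

/-- if `F^N = 0` then an element of augmentation `c` divides `c ^ N` -/
lemma exists_mul_eq_pow (P : PosStructure K) {N : ℕ} (hN : gammaFiltration P N = ⊥) {y : K}
    {c : ℤ} (hy : P.aug y = c) : ∃ w : K, w * y = (c : K) ^ N := by
  have h0 : P.aug (y - (c : K)) = 0 := by rw [map_sub, hy, map_intCast]; simp
  have h1 := pow_mem_filtration P h0 N
  rw [hN, AddSubgroup.mem_bot] at h1
  have h2 := sub_dvd_pow_sub_pow (c : K) (-(y - (c : K))) N
  have h3 : (-(y - (c : K))) ^ N = 0 := by rw [neg_pow, h1, mul_zero]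
  rw [h3, sub_zero] at h2
  obtain ⟨w, hw⟩ := h2
  exact ⟨w, by rw [hw]; ring⟩

end inv

end Groth.Agent.Krr.H503.Elem
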