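import Groth.Agent.Books.Lambda3
import Groth.Agent.Krr.H503.Core
import Groth.Prelude.Def_KRR

/-!
# Lambda-ring side: `λ^n (u y) = u^n λ^n y`, splitting of `extPoly`, `sigmaSeries`, `bott`
-/

set_option autoImplicit false
universe u

open Finset LambdaRing

namespace Groth.Agent.Krr.H503.Lam

open Groth.Agent.Books.Lambda1 Groth.Agent.Krr.H503.Core
open Groth.Agent.Books.Lambda3 (exists_split_fin)

section line

variable {K : Type u} [CommRing K] [LambdaOps K]

omit [LambdaOps K] in
lemma rescale_one_add_C_mul_X (u v : K) :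
    PowerSeries.rescale u (1 + PowerSeries.C v * PowerSeries.X) =
      1 + PowerSeries.C (u * v) * PowerSeries.X := by
  ext n
  rw [PowerSeries.coeff_rescale]
  rcases n with _ | _ | n
  · simp
  · simp [PowerSeries.coeff_one]
  · simp only [map_add, PowerSeries.coeff_one, PowerSeries.coeff_C_mul, PowerSeries.coeff_X]
    rw [if_neg (by omega), if_neg (by omega)]
    simp

lemma lamSeries_sum_line (P : PosStructure K) {ι : Type*} (s : Finset ι) (v : ι → K)
    (hv : ∀ i, P.IsLine (v i)) :
    lamSeries (∑ i ∈ s, v i) = ∏ i ∈ s, (1 + PowerSeries.C (v i) * PowerSeries.X) := by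
  classical
  induction s using Finset.induction_on with
  | empty => simp [lamSeries_zero]
  | insert a s ha ih =>
    rw [Finset.sum_insert ha, Finset.prod_insert ha, lamSeries_add, ih, lamSeries_line P _ (hv a)]

lemma lamSeries_line_mul_pos (P : PosStructure K) (hK : HasSplitting K P) {w : K}
    (hw : P.IsLine w) {y : K} (hy : y ∈ P.pos) :
    lamSeries (w * y) = PowerSeries.rescale w (lamSeries y) := by
  obtain ⟨L', -, f, hf, v, hv, hsum⟩ := exists_split_fin P hK y hy _ rfl
  have hinj : Function.Injective (PowerSeries.map f) := by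
    intro a b hab
    ext n
    apply hf.injective
    rw [← PowerSeries.coeff_map, hab, PowerSeries.coeff_map]
  apply hinj
  rw [map_lamSeries hf.isLambdaHom, map_mul, ← hsum, Finset.mul_sum,
    lamSeries_sum_line L'.posStr _ _ (fun i => IsLine_mul _ (IsLine_map hf hw) (hv i))]
  have h1 : PowerSeries.map f (PowerSeries.rescale w (lamSeries y)) =
      PowerSeries.rescale (f w) (lamSeries (f y)) := by
    ext n
    rw [PowerSeries.coeff_map, PowerSeries.coeff_rescale, PowerSeries.coeff_rescale, map_mul,
      map_pow, coeff_lamSeries, coeff_lamSeries, hf.isLambdaHom]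
  rw [h1, ← hsum, lamSeries_sum_line L'.posStr _ _ hv, map_prod]
  exact Finset.prod_congr rfl fun i _ => (rescale_one_add_C_mul_X _ _).symm

/-- `λ_t (w y) = λ_{wt} (y)` for `w` a line element and any `y` -/
lemma lamSeries_line_mul (P : PosStructure K) (hK : HasSplitting K P) {w : K}
    (hw : P.IsLine w) (y : K) :
    lamSeries (w * y) = PowerSeries.rescale w (lamSeries y) := by
  obtain ⟨a, b, ha, hb, rfl⟩ := P.exists_sub y
  have h1 : lamSeries (w * (a - b)) * lamSeries (w * b) = lamSeries (w * a) := by
    rw [← lamSeries_add]; congr 1; ring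
  have h2 : lamSeries (a - b) * lamSeries b = lamSeries a := by
    rw [← lamSeries_add]; congr 1; ring
  rw [lamSeries_line_mul_pos P hK hw ha, ← h2, map_mul, ← lamSeries_line_mul_pos P hK hw hb] at h1
  exact (isUnit_lamSeries (w * b)).mul_right_cancel h1

lemma lam_line_mul (P : PosStructure K) (hK : HasSplitting K P) {w : K}
    (hw : P.IsLine w) (y : K) (n : ℕ) :
    LambdaOps.lam n (w * y) = w ^ n * LambdaOps.lam n y := by
  rw [← coeff_lamSeries, lamSeries_line_mul P hK hw, PowerSeries.coeff_rescale, coeff_lamSeries]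

/-- `λ^n (w⁻¹ y) = w^{-n} λ^n (y)` for `w` a line element and any `y` -/
lemma lam_mul_inv (P : PosStructure K) (hK : HasSplitting K P) {w w' : K}
    (hw : P.IsLine w) (hw' : w' * w = 1) (y : K) (n : ℕ) :
    LambdaOps.lam n (y * w') = LambdaOps.lam n y * w' ^ n := by
  have h1 := lam_line_mul P hK hw (y * w') n
  have h2 : w * (y * w') = y := by linear_combination y * hw'
  have h3 : w ^ n * w' ^ n = 1 := by rw [← mul_pow, mul_comm w, hw', one_pow]
  rw [h2] at h1
  rw [h1]
  linear_combination (-(LambdaOps.lam n (y * w'))) * h3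

end line

section split

variable {K : Type u} [CommRing K] [LambdaOps K] (P : PosStructure K)

lemma lam_sum_line {m : ℕ} (v : Fin m → K) (hv : ∀ i, P.IsLine (v i)) (n : ℕ) :
    LambdaOps.lam n (∑ i, v i) = (Finset.univ.val.map v).esymm n := by
  rw [← coeff_lamSeries, lamSeries_sum_line P _ _ hv, Finset.esymm_map_val,
    Finset.prod_one_add, map_sum]
  have h3 : ∀ t : Finset (Fin m), PowerSeries.coeff n
      (∏ i ∈ t, (PowerSeries.C (v i) * PowerSeries.X)) =
      if t.card = n then ∏ i ∈ t, v i else 0 := by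
    intro t
    rw [Finset.prod_mul_distrib, ← map_prod, Finset.prod_const, PowerSeries.coeff_C_mul,
      PowerSeries.coeff_X_pow]
    split_ifs with h h' h'
    · simp
    · exact absurd h.symm h'
    · exact absurd h'.symm h
    · simp
  simp only [h3]
  rw [← Finset.sum_filter]
  apply Finset.sum_congr
  · ext t
    simp [Finset.mem_powersetCard]
  · intros; rfl

variable {L : Type u} [CommRing L] [LambdaOps L] (P' : PosStructure L) {f : K →+* L}
  (hf : IsExtension P P' f) (e : K) {m : ℕ} (hm : (P.aug e).toNat = m) (v : Fin m → L)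
  (hv : ∀ i, P'.IsLine (v i)) (hsum : ∑ i, v i = f e)

include hf hv hsum in
lemma map_lam_eq_esymm (n : ℕ) : f (LambdaOps.lam n e) = (Finset.univ.val.map v).esymm n := by
  rw [hf.isLambdaHom, ← hsum, lam_sum_line P' v hv]

include hf hv hsum hm in
lemma map_extPoly : (KRR.extPoly P e).map f = pp v := by
  have h1 : pp v = ((Finset.univ.val.map v).map fun t => Polynomial.X - Polynomial.C t).prod := by
    rw [pp, Multiset.map_map]; rfl
  rw [h1, Multiset.prod_X_sub_X_eq_sum_esymm, KRR.extPoly, Polynomial.map_sum]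
  have hcard : Multiset.card (Finset.univ.val.map v) = m := by simp
  rw [hcard, hm]
  refine Finset.sum_congr rfl fun n _ => ?_
  rw [Polynomial.map_mul, Polynomial.map_C, map_mul, map_lam_eq_esymm P P' hf e v hv hsum,
    Polynomial.map_pow, Polynomial.map_X, Polynomial.C_mul]
  simp only [map_pow, map_neg, map_one]
  ring

include hf hv hsum in
lemma map_sigmaSeries : PowerSeries.map f (KRR.sigmaSeries e) = hS v := by
  have h1 : KRR.sigmaSeries e = (R e).invOfUnit 1 := rfl
  have h2 := congrArg (PowerSeries.map f) (R_mul_inv e)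
  rw [map_mul, map_R hf.isLambdaHom, map_one, ← h1] at h2
  have h3 : R (f e) = ∏ k, (1 - PowerSeries.C (v k) * PowerSeries.X) := by
    rw [R, ← hsum, lamSeries_sum_line P' _ _ hv, map_prod]
    refine Finset.prod_congr rfl fun k _ => ?_
    rw [rescale_one_add_C_mul_X, neg_one_mul, map_neg, neg_mul, sub_eq_add_neg]
  rw [h3] at h2
  have h4 := prod_mul_hS v
  calc PowerSeries.map f (KRR.sigmaSeries e) =
      ((∏ k, (1 - PowerSeries.C (v k) * PowerSeries.X)) * hS v) *
        PowerSeries.map f (KRR.sigmaSeries e) := by rw [h4, one_mul]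
    _ = ((∏ k, (1 - PowerSeries.C (v k) * PowerSeries.X)) *
        PowerSeries.map f (KRR.sigmaSeries e)) * hS v := by ring
    _ = _ := by rw [h2, one_mul]

end split

section bott

lemma aeval_bottPoly {A : Type u} [CommRing A] (j m : ℕ) (v : Fin m → A) :
    MvPolynomial.aeval (fun i : Fin m => (Finset.univ.val.map v).esymm (i.1 + 1))
      (KRR.bottPoly j m) = ∏ k, ∑ s ∈ Finset.range j, v k ^ s := by
  have h1 : MvPolynomial.aeval v (KRR.bottSym j m) = ∏ k, ∑ s ∈ Finset.range j, v k ^ s := by
    rw [KRR.bottSym, map_prod]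
    simp
  have h2 : MvPolynomial.aeval (fun i : Fin m => MvPolynomial.esymm (Fin m) ℤ (i + 1))
      (KRR.bottPoly j m) = KRR.bottSym j m := by
    have h3 := AlgEquiv.apply_symm_apply (MvPolynomial.esymmAlgEquiv (Fin m) ℤ (Fintype.card_fin m))
      ⟨KRR.bottSym j m, KRR.bottSym_isSymmetric j m⟩
    have h4 := congrArg Subtype.val h3
    rw [MvPolynomial.esymmAlgEquiv_apply, MvPolynomial.esymmAlgHom_apply] at h4
    exact h4
  rw [← h1, ← h2, ← AlgHom.comp_apply, MvPolynomial.comp_aeval]
  congr 2
  funext i
  rw [Finset.esymm_map_val, MvPolynomial.esymm, map_sum]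
  simp

end bott

end Groth.Agent.Krr.H503.Lam
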