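import Groth.Agent.Krr.H496.PullK0
import Groth.Agent.Sga67.CohDevissage
import Groth.Agent.CohqB.DevSimple
import Groth.Agent.Ega3B.Devissage
import Groth.Agent.Fga.IntegralSub
import Groth.Agent.Fdesc.StructMod
import Groth.Agent.S0019
import Groth.Prelude.Def_KRR

/-!
# Restriction to an open subscheme on `K₀` of coherent modules and of bundles

For an open immersion `j : U ⟶ X` of Noetherian schemes:
* `hasEnoughLocFree_open`: `KRR.HasEnoughLocFree X → KRR.HasEnoughLocFree U`;
* `resCoh j : SGA6.Kcoh X →+ SGA6.Kcoh U`, `resCoh_cl`, `resCoh_surjective`;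
* `dl hX : SGA6.Kvb X →+ SGA6.Kcoh X` (the Poincaré map δ), `resCoh_dl`: `δ_U ∘ j^K = j^* ∘ δ_X`;
* `mem_closure_of_resCoh_eq_zero`: a class in `K₀(Coh X)` restricting to `0` on `U` is in the subgroup generated by
  the `[i_* O_W]`, `i : W ⟶ X` a closed immersion, `W` integral, with image disjoint from `U`.
-/

set_option autoImplicit false
universe v u
open CategoryTheory CategoryTheory.Limits AlgebraicGeometry
open AlgebraicGeometry.Scheme.Modules

namespace Groth.Agent.Krr.H503.OpenRes

open Groth.Agent.Krr.H496.PullK0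

theorem additive_restrictFunctor {U X : Scheme.{u}} (j : U ⟶ X) [IsOpenImmersion j] :
    (restrictFunctor j).Additive := ⟨fun {_ _ _ _} => rfl⟩

section Basic

variable {X U : Scheme.{u}} (j : U ⟶ X) [IsOpenImmersion j]

theorem isFinLocFree_restrict {E : X.Modules} (hE : FlatMod.IsFinLocFree E) :
    FlatMod.IsFinLocFree ((restrictFunctor j).obj E) :=
  Groth.Agent.Dcoh.FinLocFree.isFinLocFree_of_iso ((restrictFunctorIsoPullback j).symm.app E)
    (Groth.Agent.PerfB.FlatPull.isFinLocFree_pullback j hE)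

/-- Enough locally free modules pass to open subschemes. -/
theorem hasEnoughLocFree_open [IsNoetherian X] (j : U ⟶ X) [IsOpenImmersion j]
    (h : KRR.HasEnoughLocFree X) : KRR.HasEnoughLocFree U := by
  intro F hF
  obtain ⟨F', hF', ⟨e⟩⟩ := Groth.Agent.Sga67.CohLoc.exists_extension j F hF
  obtain ⟨E, p, hE, hp⟩ := h F' hF'
  refine ⟨(restrictFunctor j).obj E, (restrictFunctor j).map p ≫ e.hom,
    isFinLocFree_restrict j hE, ?_⟩
  have : Epi ((restrictFunctor j).map p) := inferInstance
  infer_instance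

theorem isCoh_restrict' (M : X.Modules) (h : Coh.IsCoh M) : Coh.IsCoh ((restrictFunctor j).obj M) :=
  Groth.Agent.CohqB.LocalQC.isCoh_restrict j h

/-- Restriction of classes of coherent modules to an open subscheme. -/
noncomputable def resCoh : SGA6.Kcoh X →+ SGA6.Kcoh U :=
  haveI := additive_restrictFunctor j
  SGA6.mapSub (restrictFunctor j) (fun M : X.Modules => Coh.IsCoh M) (fun M : U.Modules => Coh.IsCoh M)
    (isCoh_restrict' j)

/-- The class of a coherent module. -/
noncomputable abbrev clc {X : Scheme.{u}} (M : X.Modules) : SGA6.Kcoh X :=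
  KZero.clSub (fun M : X.Modules => Coh.IsCoh M) M

theorem resCoh_cl {M : X.Modules} (hM : Coh.IsCoh M) :
    resCoh j (clc M) = clc ((restrictFunctor j).obj M) := by
  have := additive_restrictFunctor j
  rw [clc, clc, Groth.Agent.Sga67.K0Loc.clSub_eq_mk _ hM,
    Groth.Agent.Sga67.K0Loc.clSub_eq_mk _ (isCoh_restrict' j M hM)]
  exact Groth.Agent.Sga67.K0Loc.mapSub_mk _ _ _ _ _ _

theorem resCoh_surjective [IsNoetherian X] : Function.Surjective (resCoh j) := by
  have := additive_restrictFunctor j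
  exact Groth.Agent.Sga67.K0Loc.surjective (Groth.Agent.Sga67.CohLoc.locHyp j (isCoh_restrict' j))

/-- The Poincaré homomorphism `K₀(bundles) ⟶ K₀(coherent modules)`. -/
noncomputable abbrev dl {X : Scheme.{u}} (hX : ∀ M : X.Modules, FlatMod.IsFinLocFree M → Coh.IsCoh M) :
    SGA6.Kvb X →+ SGA6.Kcoh X :=
  SGA6.mapSub (𝟭 X.Modules) (KRR.vbP X) (fun M : X.Modules => Coh.IsCoh M) hX

theorem dl_cl (hX : ∀ M : X.Modules, FlatMod.IsFinLocFree M → Coh.IsCoh M) {E : X.Modules}
    (hE : FlatMod.IsFinLocFree E) : dl hX (cl E) = clc E := by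
  rw [cl, clc, Groth.Agent.Sga67.K0Loc.clSub_eq_mk _ hE,
    Groth.Agent.Sga67.K0Loc.clSub_eq_mk _ (hX E hE)]
  exact Groth.Agent.Sga67.K0Loc.mapSub_mk _ _ _ _ _ _

theorem clc_iso {X : Scheme.{u}} {M N : X.Modules} (e : M ≅ N) (hM : Coh.IsCoh M) :
    clc M = clc N :=
  Groth.Agent.Sga67.K0Basic.clSub_iso' e hM (Groth.Agent.Sga67.CohBasic.isCoh_of_iso e hM)
    (isZero_zero X.Modules) (Groth.Agent.Sga67.CohBasic.isCoh_of_isZero (isZero_zero _))

/-- `δ_U ∘ j^K = j^* ∘ δ_X`. -/
theorem resCoh_dl (hX : ∀ M : X.Modules, FlatMod.IsFinLocFree M → Coh.IsCoh M)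
    (hU : ∀ M : U.Modules, FlatMod.IsFinLocFree M → Coh.IsCoh M) (z : SGA6.Kvb X) :
    resCoh j (dl hX z) = dl hU (pullK0 j z) := by
  have key : (resCoh j).comp (dl hX) = (dl hU).comp (pullK0 j) := by
    refine Groth.Agent.Sga67.K0Basic.hom_ext_sub fun E hE => ?_
    rw [AddMonoidHom.comp_apply, AddMonoidHom.comp_apply]
    have h1 : dl hX (KZero.clSub (KRR.vbP X) E) = clc E := dl_cl hX hE
    have h2 : pullK0 j (KZero.clSub (KRR.vbP X) E) = cl ((Scheme.Modules.pullback j).obj E) := pullK0_cl j hE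
    rw [h1, h2, resCoh_cl j (hX E hE),
      dl_cl hU (Groth.Agent.PerfB.FlatPull.isFinLocFree_pullback j hE)]
    exact clc_iso ((restrictFunctorIsoPullback j).app E) (isCoh_restrict' j E (hX E hE))
  exact DFunLike.congr_fun key z

end Basic

section Kernel

variable {X : Scheme.{u}}

/-- Dévissage with structure sheaves: on a Noetherian scheme the class of a coherent module with support in a closed set
`T` lies in the subgroup generated by the `[i_* O_W]`, `W` integral closed with image in `T`. -/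
theorem clc_mem_closure [IsNoetherian X] (T : Set X) (hT : IsClosed T) (F : X.Modules)
    (hF : Coh.IsCoh F) (hFT : CohB1.support F ⊆ T) :
    clc F ∈ AddSubgroup.closure {x : SGA6.Kcoh X | ∃ (W : Scheme.{u}) (i : W ⟶ X)
      (_ : IsClosedImmersion i) (_ : IsIntegral W), Set.range i ⊆ T ∧
        x = clc ((pushforward i).obj (Coh.structureModule W))} := by
  set H := AddSubgroup.closure {x : SGA6.Kcoh X | ∃ (W : Scheme.{u}) (i : W ⟶ X)
      (_ : IsClosedImmersion i) (_ : IsIntegral W), Set.range i ⊆ T ∧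
        x = clc ((pushforward i).obj (Coh.structureModule W))} with hH
  refine Groth.Agent.Ega3B.Devissage.devissage T hT (fun M => clc M ∈ H) ?_ ?_ ?_ F hF hFT
  · intro M hM
    rw [clc, Groth.Agent.Sga67.K0Basic.clSub_of_isZero hM]
    exact zero_mem _
  · intro S hS h1 h2 h3 _
    have key : clc S.X₂ = clc S.X₁ + clc S.X₃ :=
      Groth.Agent.Sga67.K0Basic.clSub_of_shortExact S hS h1 h2 h3
    refine ⟨fun ha hb => ?_, fun ha hb => ?_, fun ha hb => ?_⟩
    · have : clc S.X₃ = clc S.X₂ - clc S.X₁ := by rw [key]; abel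
      change clc S.X₃ ∈ H
      rw [this]
      exact H.sub_mem hb ha
    · change clc S.X₂ ∈ H
      rw [key]
      exact H.add_mem ha hb
    · have : clc S.X₁ = clc S.X₂ - clc S.X₃ := by rw [key]; abel
      change clc S.X₁ ∈ H
      rw [this]
      exact H.sub_mem ha hb
  · intro y hy
    obtain ⟨Z, i, hi, hZ, hgen, hrange⟩ := Groth.Agent.Fga.IntegralSub.exists_integral_closed y
    let G := (Coh.push i).obj (Coh.structureModule Z)
    have hG : Coh.IsCoh G := Groth.Agent.S0019.result i _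
      (Groth.Agent.Fdesc.StructMod.isCoh_structureModule _)
    have hGs : CohB1.support G ⊆ closure {y} :=
      (Groth.Agent.CohqB.DevSimple.support_push_subset_range i _).trans hrange.le
    have hsimple : IsSimpleModule (X.presheaf.stalk y) (G.presheaf.stalk y) := by
      have : Nonempty (⊤ : Z.Opens) := ⟨⟨genericPoint Z, trivial⟩⟩
      have h := Groth.Agent.CohqB.DevSimple.isSimpleModule_stalk_push i (Coh.structureModule Z) ⊤
        ⟨Scheme.Modules.restrictUnitIso _⟩
      rw [hgen] at h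
      exact h
    refine ⟨G, hG, AddSubgroup.subset_closure ⟨Z, i, hi, hZ, ?_, rfl⟩, hGs, hsimple⟩
    rw [hrange]
    exact closure_minimal (Set.singleton_subset_iff.mpr hy) hT

theorem support_disjoint_of_isZero_restrict {U : Scheme.{u}} (j : U ⟶ X) [IsOpenImmersion j]
    {M : X.Modules} (h0 : IsZero ((restrictFunctor j).obj M)) :
    CohB1.support M ⊆ (Set.range j)ᶜ := by
  rintro x hx ⟨y, rfl⟩
  have key : ∀ s : M.presheaf.stalk (j y), s = 0 := by
    intro s
    obtain ⟨V, hV, t, rfl⟩ := TopCat.Presheaf.exists_germ_eq M.presheaf s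
    have hle : j ''ᵁ (j ⁻¹ᵁ V) ≤ V := by
      rw [Scheme.Hom.image_preimage_eq_opensRange_inf]
      exact inf_le_right
    have hy : j y ∈ j ''ᵁ (j ⁻¹ᵁ V) := ⟨y, hV, rfl⟩
    have hsub : Subsingleton Γ(M, j ''ᵁ (j ⁻¹ᵁ V)) :=
      Groth.Agent.Sga67.CohLoc.subsingleton_of_isZero h0 (j ⁻¹ᵁ V)
    rw [← TopCat.Presheaf.germ_res_apply M.presheaf (homOfLE hle) (j y) hy t]
    have h1 : M.presheaf.map (homOfLE hle).op t = 0 := hsub.elim _ _
    rw [h1, map_zero]
  exact hx ⟨fun a b => (key a).trans (key b).symm⟩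

/-- Elements of `K₀(Coh X)` which restrict to zero on an open subscheme. -/
theorem mem_closure_of_resCoh_eq_zero [IsNoetherian X] {U : Scheme.{u}} (j : U ⟶ X)
    [IsOpenImmersion j] (z : SGA6.Kcoh X) (hz : resCoh j z = 0) :
    z ∈ AddSubgroup.closure {x : SGA6.Kcoh X | ∃ (W : Scheme.{u}) (i : W ⟶ X)
      (_ : IsClosedImmersion i) (_ : IsIntegral W), Set.range i ⊆ (Set.range j)ᶜ ∧
        x = clc ((pushforward i).obj (Coh.structureModule W))} := by
  have := additive_restrictFunctor j
  have h1 : z ∈ (SGA6.mapSub (restrictFunctor j) (fun M : X.Modules => Coh.IsCoh M)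
      (fun M : U.Modules => Coh.IsCoh M) (isCoh_restrict' j)).ker := hz
  rw [Groth.Agent.Sga67.CohDevissage.ker_restrict_eq_closure j (isCoh_restrict' j)] at h1
  refine (AddSubgroup.closure_le _).2 ?_ h1
  rintro _ ⟨M, hM, h0, rfl⟩
  rw [← Groth.Agent.Sga67.K0Loc.clSub_eq_mk]
  exact clc_mem_closure _ j.isOpenEmbedding.isOpen_range.isClosed_compl M hM
    (support_disjoint_of_isZero_restrict j h0)

end Kernel

end Groth.Agent.Krr.H503.OpenRes
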