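import Groth.Agent.Krr.H503.OpenRes
import Groth.Agent.Krr.H482.PullFinal
import Groth.Agent.S3746

/-!
# Restriction to an open subscheme on models of `K(X)`

`X` Noetherian regular with enough locally free modules, `j : U ⟶ X` an open immersion:
* `isRegular_open`, `isNoetherian_open`, `hasEnoughLocFree_open`;
* `pullK0_surjective`, `pull_surjective` (models);
* `exists_lift_gammaFiltration`: `F^n K(X) → F^n K(U)` is surjective;
* `step`: from `N • [M|_U] = δ_U z_U`, `z_U ∈ F^n K(U)`, and the same property for all `[i_* O_W]` with `W` integral closed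
  in `X - U`, conclude `N' • [M] = δ_X z`, `z ∈ F^n K(X)`.
-/

set_option autoImplicit false
universe v w u
open CategoryTheory CategoryTheory.Limits AlgebraicGeometry
open AlgebraicGeometry.Scheme.Modules

namespace Groth.Agent.Krr.H503.OpenResModel

open Groth.Agent.Krr.H503.OpenRes
open KRR Groth.Agent.Krr.H482.LamAlg Groth.Agent.Krr.H482.PullLambda

section Alg

open LambdaRing

variable {K : Type v} [CommRing K] [LambdaOps K] {K' : Type w} [CommRing K'] [LambdaOps K']
  {q : K →+* K'}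

/-- A surjective λ-homomorphism compatible with augmentations is surjective on every step of the γ-filtration. -/
theorem exists_lift_of_surjective (hq : ∀ x, CommAt q x) {P : PosStructure K} {P' : PosStructure K'}
    (haug : ∀ x, P'.aug (q x) = P.aug x) (hs : Function.Surjective q) (k : ℕ) {y : K'}
    (hy : y ∈ gammaFiltration P' k) : ∃ x ∈ gammaFiltration P k, q x = y := by
  unfold gammaFiltration at hy ⊢
  split_ifs at hy ⊢ with hk
  · obtain ⟨x, rfl⟩ := hs y
    exact ⟨x, AddSubgroup.mem_top _, rfl⟩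
  · induction hy using AddSubgroup.closure_induction with
    | mem y hy =>
      obtain ⟨l, hl, hsum, rfl⟩ := hy
      choose s hs' using hs
      refine ⟨((l.map fun p => (p.1, s p.2)).map fun p => gamma p.1 p.2).prod,
        AddSubgroup.subset_closure ⟨l.map fun p => (p.1, s p.2), ?_, ?_, rfl⟩, ?_⟩
      · intro p hp
        obtain ⟨p', hp', rfl⟩ := List.mem_map.mp hp
        change P.aug (s p'.2) = 0
        rw [← haug, hs']
        exact hl p' hp'
      · rw [List.map_map]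
        exact hsum
      · rw [map_list_prod, List.map_map, List.map_map]
        congr 1
        refine List.map_congr_left fun p _ => ?_
        change q (gamma p.1 (s p.2)) = gamma p.1 p.2
        rw [map_gamma hq, hs']
    | zero => exact ⟨0, zero_mem _, map_zero _⟩
    | add x y _ _ hx hy =>
      obtain ⟨a, ha, rfl⟩ := hx
      obtain ⟨b, hb, rfl⟩ := hy
      exact ⟨a + b, add_mem ha hb, map_add _ _ _⟩
    | neg x _ hx =>
      obtain ⟨a, ha, rfl⟩ := hx
      exact ⟨-a, neg_mem ha, map_neg _ _⟩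

end Alg

section Reg

variable {X U : Scheme.{u}}

theorem isRegular_open (j : U ⟶ X) [IsOpenImmersion j] (hreg : ∀ x : X, IsRegularLocalRing (X.presheaf.stalk x)) (x : U) :
    IsRegularLocalRing (U.presheaf.stalk x) := by
  have := hreg (j x)
  exact IsRegularLocalRing.of_ringEquiv (asIso (j.stalkMap x)).commRingCatIsoToRingEquiv

theorem isNoetherian_open (j : U ⟶ X) [IsOpenImmersion j] [IsNoetherian X] : IsNoetherian U :=
  Groth.Agent.Sga67.CohBasic.isNoetherian_of_isOpenImmersion j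

/-- On a regular Noetherian scheme with enough locally free modules every class of `K₀(bundles on U)` extends. -/
theorem pullK0_surjective (j : U ⟶ X) [IsOpenImmersion j] [IsNoetherian X]
    (hreg : ∀ x : X, IsRegularLocalRing (X.presheaf.stalk x)) (hE : KRR.HasEnoughLocFree X) :
    Function.Surjective (Groth.Agent.Krr.H496.PullK0.pullK0 j) := by
  have := isNoetherian_open j
  have hX : ∀ M : X.Modules, FlatMod.IsFinLocFree M → Coh.IsCoh M :=
    fun M hM => Groth.Agent.PerfA.CohSerre.isCoh_of_isFinLocFree hM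
  have hU : ∀ M : U.Modules, FlatMod.IsFinLocFree M → Coh.IsCoh M :=
    fun M hM => Groth.Agent.PerfA.CohSerre.isCoh_of_isFinLocFree hM
  have bX := Groth.Agent.S3746.result X hreg hE hX
  have bU := Groth.Agent.S3746.result U (isRegular_open j hreg) (hasEnoughLocFree_open j hE) hU
  intro y
  obtain ⟨w, hw⟩ := resCoh_surjective j (dl hU y)
  obtain ⟨z, hz⟩ := bX.2 w
  refine ⟨z, bU.1 ?_⟩
  have := resCoh_dl j hX hU z
  rw [← this, ← hw]
  exact congrArg _ hz

end Reg

section Model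

variable {X U : Scheme.{u}} {j : U ⟶ X}
  {K : Type v} [CommRing K] [LambdaRing.LambdaOps K] {P : LambdaRing.PosStructure K}
  {φ : SGA6.Kvb X →+ K}
  {KU : Type w} [CommRing KU] [LambdaRing.LambdaOps KU] {PU : LambdaRing.PosStructure KU}
  {φU : SGA6.Kvb U →+ KU} {q : K →+ KU}

omit [LambdaRing.LambdaOps K] [LambdaRing.LambdaOps KU] in
theorem pull_eq (hq : IsPull j φ φU q) (z : SGA6.Kvb X) :
    q (φ z) = φU (Groth.Agent.Krr.H496.PullK0.pullK0 j z) := by
  have key : q.comp φ = φU.comp (Groth.Agent.Krr.H496.PullK0.pullK0 j) := by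
    refine Groth.Agent.Sga67.K0Basic.hom_ext_sub fun E hE => ?_
    have h2 : Groth.Agent.Krr.H496.PullK0.pullK0 j (KZero.clSub (KRR.vbP X) E) =
        cl U ((Scheme.Modules.pullback j).obj E) := Groth.Agent.Krr.H496.PullK0.pullK0_cl j hE
    rw [AddMonoidHom.comp_apply, AddMonoidHom.comp_apply, h2]
    exact hq E hE
  exact DFunLike.congr_fun key z

variable [IsNoetherian X] [IsOpenImmersion j]
  (hreg : ∀ x : X, IsRegularLocalRing (X.presheaf.stalk x)) (hE : KRR.HasEnoughLocFree X)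
  (hK : IsModel X K P φ) (hKU : IsModel U KU PU φU) (hq : IsPull j φ φU q)

include hreg hE hKU hq in
theorem pull_surjective : Function.Surjective q := by
  intro y
  obtain ⟨y', rfl⟩ := hKU.bijective.2 y
  obtain ⟨z, rfl⟩ := pullK0_surjective j hreg hE y'
  exact ⟨φ z, pull_eq hq z⟩

include hreg hE hK hKU hq in
/-- `F^k K(X) → F^k K(U)` is surjective. -/
theorem exists_lift_gammaFiltration (k : ℕ) {y : KU} (hy : y ∈ LambdaRing.gammaFiltration PU k) :
    ∃ x ∈ LambdaRing.gammaFiltration P k, q x = y :=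
  exists_lift_of_surjective (q := pullRingHom hKU hK hq)
    (Groth.Agent.Krr.H482.PullFinal.commAt_pull hKU hK hq) (pull_aug hKU hK hq)
    (pull_surjective hreg hE hKU hq) k hy

include hreg hE hK hKU hq in
/-- The same on `K₀` of bundles. -/
theorem exists_lift_vb (k : ℕ) {y : SGA6.Kvb U} (hy : φU y ∈ LambdaRing.gammaFiltration PU k) :
    ∃ z : SGA6.Kvb X, φ z ∈ LambdaRing.gammaFiltration P k ∧
      Groth.Agent.Krr.H496.PullK0.pullK0 j z = y := by
  obtain ⟨x, hx, hxy⟩ := exists_lift_gammaFiltration hreg hE hK hKU hq k hy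
  obtain ⟨z, rfl⟩ := hK.bijective.2 x
  refine ⟨z, hx, hKU.bijective.1 ?_⟩
  rw [← pull_eq hq, hxy]

/-- The subgroup of `K₀(Coh X)` of classes lying in `ℚ F^n K(X)`. -/
def qf {X : Scheme.{u}} (hX : ∀ M : X.Modules, FlatMod.IsFinLocFree M → Coh.IsCoh M)
    (P : LambdaRing.PosStructure K) (φ : SGA6.Kvb X →+ K) (n : ℕ) : AddSubgroup (SGA6.Kcoh X) where
  carrier := {w | ∃ (N : ℕ) (z : SGA6.Kvb X), 1 ≤ N ∧ φ z ∈ LambdaRing.gammaFiltration P n ∧
    N • w = dl hX z}
  zero_mem' := ⟨1, 0, le_rfl, by rw [map_zero]; exact zero_mem _, by rw [map_zero, smul_zero]⟩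
  add_mem' := by
    rintro a b ⟨N, z, hN, hz, ha⟩ ⟨N', z', hN', hz', hb⟩
    refine ⟨N * N', N' • z + N • z', Nat.one_le_iff_ne_zero.2 (by positivity), ?_, ?_⟩
    · rw [map_add, map_nsmul, map_nsmul]
      exact add_mem (nsmul_mem hz _) (nsmul_mem hz' _)
    · rw [map_add, map_nsmul, map_nsmul, ← ha, ← hb, smul_add, smul_smul, smul_smul, mul_comm N' N]
  neg_mem' := by
    rintro a ⟨N, z, hN, hz, ha⟩
    refine ⟨N, -z, hN, ?_, ?_⟩
    · rw [map_neg]
      exact neg_mem hz
    · rw [map_neg, smul_neg, ha]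

theorem mem_qf {X : Scheme.{u}} {hX : ∀ M : X.Modules, FlatMod.IsFinLocFree M → Coh.IsCoh M}
    {P : LambdaRing.PosStructure K} {φ : SGA6.Kvb X →+ K} {n : ℕ} {w : SGA6.Kcoh X} :
    w ∈ qf hX P φ n ↔ ∃ (N : ℕ) (z : SGA6.Kvb X), 1 ≤ N ∧
      φ z ∈ LambdaRing.gammaFiltration P n ∧ N • w = dl hX z := Iff.rfl

theorem mem_qf_of_nsmul {X : Scheme.{u}} {hX : ∀ M : X.Modules, FlatMod.IsFinLocFree M → Coh.IsCoh M}
    {P : LambdaRing.PosStructure K} {φ : SGA6.Kvb X →+ K} {n : ℕ} {w : SGA6.Kcoh X} (N : ℕ)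
    (hN : 1 ≤ N) (h : N • w ∈ qf hX P φ n) : w ∈ qf hX P φ n := by
  obtain ⟨M, z, hM, hz, h⟩ := h
  refine ⟨M * N, z, Nat.one_le_iff_ne_zero.2 (by positivity), hz, ?_⟩
  rw [← h, smul_smul]

theorem dl_mem_qf {X : Scheme.{u}} {hX : ∀ M : X.Modules, FlatMod.IsFinLocFree M → Coh.IsCoh M}
    {P : LambdaRing.PosStructure K} {φ : SGA6.Kvb X →+ K} {n : ℕ} {z : SGA6.Kvb X}
    (hz : φ z ∈ LambdaRing.gammaFiltration P n) : dl hX z ∈ qf hX P φ n :=
  ⟨1, z, le_rfl, hz, one_smul _ _⟩

theorem qf_antitone {X : Scheme.{u}} {hX : ∀ M : X.Modules, FlatMod.IsFinLocFree M → Coh.IsCoh M}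
    {P : LambdaRing.PosStructure K} {φ : SGA6.Kvb X →+ K} {m n : ℕ} (hmn : m ≤ n) :
    qf hX P φ n ≤ qf hX P φ m := by
  rintro w ⟨N, z, hN, hz, h⟩
  refine ⟨N, z, hN, ?_, h⟩
  unfold LambdaRing.gammaFiltration at hz ⊢
  split_ifs with hm
  · exact AddSubgroup.mem_top _
  · rw [if_neg (by omega)] at hz
    refine AddSubgroup.closure_mono ?_ hz
    rintro y ⟨l, h1, h2, h3⟩
    exact ⟨l, h1, hmn.trans h2, h3⟩

include hreg hE hK hKU hq in
/-- The step of the induction: `v|_U ∈ ℚ F^n K(U)` and `[i_* O_W] ∈ ℚ F^n K(X)` for all integral closed `W` off `U` imply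
`v ∈ ℚ F^n K(X)`. -/
theorem step (hX : ∀ M : X.Modules, FlatMod.IsFinLocFree M → Coh.IsCoh M)
    (hU : ∀ M : U.Modules, FlatMod.IsFinLocFree M → Coh.IsCoh M) (n : ℕ) (v : SGA6.Kcoh X)
    (hv : resCoh j v ∈ qf hU PU φU n)
    (hW : ∀ (W : Scheme.{u}) (i : W ⟶ X) [IsClosedImmersion i] [IsIntegral W],
      Set.range i ⊆ (Set.range j)ᶜ →
        clc ((pushforward i).obj (Coh.structureModule W)) ∈ qf hX P φ n) :
    v ∈ qf hX P φ n := by
  obtain ⟨N, zU, hN, hzU, h⟩ := hv
  obtain ⟨z, hz, rfl⟩ := exists_lift_vb hreg hE hK hKU hq n hzU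
  refine mem_qf_of_nsmul N hN ?_
  have h1 : N • v - dl hX z ∈ qf hX P φ n := by
    refine (AddSubgroup.closure_le _).2 ?_
      (mem_closure_of_resCoh_eq_zero j (N • v - dl hX z) ?_)
    · rintro _ ⟨W, i, hi, hWi, hr, rfl⟩
      exact hW W i hr
    · rw [map_sub, map_nsmul, h, resCoh_dl j hX hU, sub_self]
  have h2 := add_mem h1 (dl_mem_qf (hX := hX) hz)
  rwa [sub_add_cancel] at h2

end Model

end Groth.Agent.Krr.H503.OpenResModel
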