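import Mathlib.RingTheory.TensorProduct.Basic
import Mathlib.Tactic.LinearCombination

/-!
# Passing from a congruence up to torsion to an identity in `R ⊗ K`
-/

set_option autoImplicit false

open scoped TensorProduct

namespace Groth.Agent.Krr.H503.Tens

universe u v w

variable {R : Type w} [CommRing R]

lemma tmul_natCast_mul {M : Type v} [CommRing M] (c : ℕ) (σ : R) (y : M) :
    σ ⊗ₜ[ℤ] ((c : M) * y) = (σ * (c : R)) ⊗ₜ[ℤ] y := by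
  have h1 : (c : M) * y = (c : ℤ) • y := by rw [zsmul_eq_mul]; simp
  have h2 : σ * (c : R) = (c : ℤ) • σ := by
    rw [zsmul_eq_mul, mul_comm]; simp
  rw [h1, h2, TensorProduct.smul_tmul]

lemma inv_eq {E : Type v} [CommRing E] (b w0 : E) (a : ℕ) (hw0 : w0 * b = a)
    (ρ : R) (hρ : ρ * (a : R) = 1) :
    (ρ ⊗ₜ[ℤ] w0 : R ⊗[ℤ] E) * ((1 : R) ⊗ₜ[ℤ] b) = 1 := by
  rw [Algebra.TensorProduct.tmul_mul_tmul, mul_one, hw0,
      ← mul_one ((a : ℕ) : E), tmul_natCast_mul, hρ]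
  rfl

theorem exists_inv {E : Type v} [CommRing E] (b w0 : E) (a : ℕ) (hw0 : w0 * b = a)
    (ha : IsUnit (a : R)) : ∃ w : R ⊗[ℤ] E, w * ((1 : R) ⊗ₜ[ℤ] b) = 1 := by
  obtain ⟨ρ, hρ⟩ := ha.exists_left_inv
  exact ⟨_, inv_eq b w0 a hw0 ρ hρ⟩

theorem main {K E : Type v} [CommRing K] [CommRing E] (b w0 : E) (a j n : ℕ) (hw0 : w0 * b = a)
    (ha : IsUnit (a : R)) (f : E →+ K) (x : E) (y : K)
    (hcore : (a : K) ^ n * ((j : K) * f (w0 * x) - a * y) = 0)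
    (w : R ⊗[ℤ] E) (hw : w * ((1 : R) ⊗ₜ[ℤ] b) = 1) :
    (1 : R) ⊗ₜ[ℤ] y = LinearMap.lTensor R f.toIntLinearMap
      ((j : R ⊗[ℤ] E) * w * ((1 : R) ⊗ₜ[ℤ] x)) := by
  obtain ⟨ρ, hρ⟩ := ha.exists_left_inv
  have hinv := inv_eq b w0 a hw0 ρ hρ
  have hww : w = ρ ⊗ₜ[ℤ] w0 := by
    calc w = w * ((ρ ⊗ₜ[ℤ] w0) * ((1 : R) ⊗ₜ[ℤ] b)) := by
          rw [hinv, mul_one]
      _ = (w * ((1 : R) ⊗ₜ[ℤ] b)) * (ρ ⊗ₜ[ℤ] w0) := by ring
      _ = _ := by rw [hw, one_mul]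
  have hj' : (j : R ⊗[ℤ] E) * w * ((1 : R) ⊗ₜ[ℤ] x) = ρ ⊗ₜ[ℤ] ((j : E) * (w0 * x)) := by
    rw [hww, tmul_natCast_mul]
    have h1 : (j : R ⊗[ℤ] E) = (j : R) ⊗ₜ[ℤ] 1 := by
      rw [Algebra.TensorProduct.natCast_def]
    rw [h1, Algebra.TensorProduct.tmul_mul_tmul, Algebra.TensorProduct.tmul_mul_tmul, one_mul,
      mul_one, mul_comm ρ]
  have h2 : f.toIntLinearMap ((j : E) * (w0 * x)) = (j : K) * f (w0 * x) := by
    change f _ = _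
    rw [← nsmul_eq_mul, map_nsmul, nsmul_eq_mul]
  rw [hj', LinearMap.lTensor_tmul, h2]
  have h3 : (a : K) ^ n * ((j : K) * f (w0 * x)) = (a : K) ^ n * ((a : K) * y) := by
    linear_combination hcore
  have hρn : ρ ^ n * (a : R) ^ n = 1 := by
    rw [← mul_pow, hρ, one_pow]
  have h4 : ∀ (σ : R) (y : K), (σ * ρ ^ n) ⊗ₜ[ℤ] ((a : K) ^ n * y) = σ ⊗ₜ[ℤ] y := by
    intro σ y
    have h5 := tmul_natCast_mul (M := K) (a ^ n) (σ * ρ ^ n) y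
    push_cast at h5
    rw [h5, mul_assoc, hρn, mul_one]
  rw [← h4 ρ, h3, h4, tmul_natCast_mul, hρ]

end Groth.Agent.Krr.H503.Tens
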